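import Groth.Agent.Hensel.Sections
import Groth.Agent.Hensel.Lift
import Mathlib.LinearAlgebra.Matrix.Charpoly.LinearMap
import Mathlib.RingTheory.Etale.Locus
import Mathlib.RingTheory.Etale.Kaehler
import Mathlib.RingTheory.Smooth.Basic
import Mathlib.Algebra.Ring.Action.Basic

/-!
Invariant sections of smooth algebras under a finite group of order invertible in the residue
field: average the Euler vector field at the fixed point and take its zero scheme.
-/

set_option autoImplicit false

open Polynomial TensorProduct IsLocalRing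

namespace Groth.Agent.InvSectionLib

universe u

/-- An endomorphism congruent to a unit scalar modulo a prime is bijective near that prime. -/
theorem exists_notMem_of_congr_smul {R M : Type u} [CommRing R] [AddCommGroup M] [Module R M]
    [Module.Finite R M] (f : Module.End R M) (P : Ideal R) [P.IsPrime] (n : R) (hn : n ∉ P)
    (h : ∀ x, f x - n • x ∈ P • (⊤ : Submodule R M)) :
    ∃ s ∉ P, (∀ x, f x = 0 → s • x = 0) ∧ ∀ y, s • y ∈ LinearMap.range f := by
  let w : Module.End R M := f - algebraMap R (Module.End R M) n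
  obtain ⟨p, hmon, -, hcoef, hp⟩ :=
    LinearMap.exists_monic_and_natDegree_eq_and_coeff_mem_pow_and_aeval_eq_zero R w P (by
      rintro _ ⟨x, rfl⟩
      simpa [w, Module.algebraMap_end_apply] using h x)
  let q : R[X] := p.comp (X - C n)
  have hq : aeval f q = 0 := by
    rw [show q = p.comp (X - C n) from rfl, aeval_comp, map_sub, aeval_X, aeval_C]
    exact hp
  have hmap : p.map (Ideal.Quotient.mk P) = X ^ p.natDegree := by
    ext k
    rw [coeff_map, coeff_X_pow]
    rcases lt_trichotomy k p.natDegree with hk | hk | hk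
    · rw [if_neg hk.ne, Ideal.Quotient.eq_zero_iff_mem]
      exact Ideal.pow_le_self (by omega) (hcoef k)
    · subst hk
      rw [if_pos rfl, hmon.coeff_natDegree, map_one]
    · rw [if_neg hk.ne', coeff_eq_zero_of_natDegree_lt hk, map_zero]
  have h0 : q.coeff 0 = p.eval (-n) := by
    simp [q, coeff_zero_eq_eval_zero, eval_comp]
  have hs : q.coeff 0 ∉ P := by
    intro hmem
    rw [h0, ← Ideal.Quotient.eq_zero_iff_mem, ← eval_map_apply, hmap, eval_pow, eval_X, map_neg,
      ← map_neg, ← map_pow, Ideal.Quotient.eq_zero_iff_mem] at hmem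
    exact hn (neg_mem_iff.1 (Ideal.IsPrime.mem_of_pow_mem ‹_› _ hmem))
  let r : Module.End R M := aeval f q.divX
  have key : ∀ x, f (r x) + q.coeff 0 • x = 0 := fun x => by
    have h1 := LinearMap.congr_fun (hq.symm.trans (congrArg (aeval f) q.X_mul_divX_add.symm)) x
    simp only [map_add, map_mul, aeval_X, aeval_C, Module.End.mul_apply, LinearMap.add_apply,
      Module.algebraMap_end_apply, LinearMap.zero_apply] at h1
    exact h1.symm
  have hcomm : ∀ x, r (f x) = f (r x) := fun x => by
    have h1 : aeval f (q.divX * X) = aeval f (X * q.divX) := by rw [mul_comm]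
    rw [map_mul, map_mul, aeval_X] at h1
    exact LinearMap.congr_fun h1 x
  refine ⟨q.coeff 0, hs, fun x hx => ?_, fun y => ⟨-(r y), ?_⟩⟩
  · have := key x
    rwa [← hcomm, hx, map_zero, zero_add] at this
  · rw [map_neg, neg_eq_iff_add_eq_zero]
    exact key y

variable {A S : Type u} [CommRing A] [CommRing S] [Algebra A S]

/-- A quotient of a smooth algebra by the zero scheme of a vector field with linear part a unit
scalar at a prime is étale at that prime. -/
theorem isEtaleAt_quotient [Algebra.Smooth A S] (v : Derivation A S S) (P : Ideal S) [P.IsPrime]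
    (J : Ideal S) (hJ : J = Ideal.span (Set.range v)) (PJ : Ideal (S ⧸ J)) [PJ.IsPrime]
    (hPJ : PJ.comap (Ideal.Quotient.mk J) = P) (n : S) (hn : n ∉ P)
    (hv : ∀ ω : Ω[S⁄A], KaehlerDifferential.D A S (v.liftKaehlerDifferential ω) - n • ω
      ∈ P • (⊤ : Submodule S Ω[S⁄A])) :
    Algebra.IsEtaleAt A PJ := by
  let V : Ω[S⁄A] →ₗ[S] S := v.liftKaehlerDifferential
  have hVD : ∀ r, V (KaehlerDifferential.D A S r) = v r := fun r => v.liftKaehlerDifferential_comp_D r
  have hVJ : ∀ ω, V ω ∈ J := by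
    intro ω
    have hmem : ω ∈ Submodule.span S (Set.range (KaehlerDifferential.D A S)) := by
      rw [KaehlerDifferential.span_range_derivation]; exact Submodule.mem_top
    induction hmem using Submodule.span_induction with
    | mem x hx => obtain ⟨r, rfl⟩ := hx; rw [hVD, hJ]; exact Ideal.subset_span ⟨r, rfl⟩
    | zero => rw [map_zero]; exact zero_mem _
    | add x y _ _ hx hy => rw [map_add]; exact add_mem hx hy
    | smul c x _ hx => rw [map_smul, smul_eq_mul]; exact J.mul_mem_left _ hx
  have hJV : ∀ j ∈ J, ∃ ω, V ω = j := by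
    intro j hj
    rw [hJ] at hj
    induction hj using Submodule.span_induction with
    | mem x hx => obtain ⟨r, rfl⟩ := hx; exact ⟨_, hVD r⟩
    | zero => exact ⟨0, map_zero _⟩
    | add x y _ _ hx hy => obtain ⟨a, rfl⟩ := hx; obtain ⟨b, rfl⟩ := hy; exact ⟨a + b, map_add _ _ _⟩
    | smul c x _ hx => obtain ⟨a, rfl⟩ := hx; exact ⟨c • a, map_smul _ _ _⟩
  let M := (S ⧸ J) ⊗[S] Ω[S⁄A]
  let u' : Ω[S⁄A] →ₗ[S] M :=
    { toFun := fun ω => 1 ⊗ₜ KaehlerDifferential.D A S (V ω)
      map_add' := fun x y => by rw [map_add, map_add, tmul_add]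
      map_smul' := fun c x => by
        rw [map_smul, smul_eq_mul, Derivation.leibniz, tmul_add, RingHom.id_apply, tmul_smul,
          tmul_smul, add_eq_left, smul_tmul', Algebra.smul_def, mul_one,
          Ideal.Quotient.algebraMap_eq, Ideal.Quotient.eq_zero_iff_mem.2 (hVJ x), zero_tmul] }
  let u : M →ₗ[S ⧸ J] M := LinearMap.liftBaseChange (S ⧸ J) u'
  have hu : ∀ ω, u (1 ⊗ₜ ω) = 1 ⊗ₜ KaehlerDifferential.D A S (V ω) := fun ω => by
    show LinearMap.liftBaseChange (S ⧸ J) u' (1 ⊗ₜ ω) = _
    rw [LinearMap.liftBaseChange_tmul, one_smul]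
    rfl
  have hsurj1 : ∀ y : M, ∃ ω, y = (1 : S ⧸ J) ⊗ₜ[S] ω := by
    intro y
    induction y using TensorProduct.induction_on with
    | zero => exact ⟨0, (tmul_zero _ _).symm⟩
    | tmul b ω =>
      obtain ⟨b, rfl⟩ := Ideal.Quotient.mk_surjective b
      refine ⟨b • ω, ?_⟩
      rw [tmul_smul, smul_tmul', Algebra.smul_def, mul_one]
      rfl
    | add x y hx hy =>
      obtain ⟨a, rfl⟩ := hx
      obtain ⟨b, rfl⟩ := hy
      exact ⟨a + b, (tmul_add _ _ _).symm⟩
  have hcong : ∀ y : M, u y - Ideal.Quotient.mk J n • y ∈ PJ • (⊤ : Submodule (S ⧸ J) M) := by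
    intro y
    obtain ⟨ω, rfl⟩ := hsurj1 y
    rw [hu, show Ideal.Quotient.mk J n • ((1 : S ⧸ J) ⊗ₜ[S] ω) = (1 : S ⧸ J) ⊗ₜ[S] (n • ω) by
      rw [tmul_smul, ← algebraMap_smul (S ⧸ J) n]; rfl, ← tmul_sub]
    refine Submodule.smul_induction_on (hv ω) (fun p hp x _ => ?_) (fun x y hx hy => ?_)
    · rw [tmul_smul, ← algebraMap_smul (S ⧸ J) p]
      exact Submodule.smul_mem_smul (Ideal.mem_comap.1 (hPJ.symm ▸ hp)) Submodule.mem_top
    · rw [tmul_add]; exact add_mem hx hy
  have hn' : Ideal.Quotient.mk J n ∉ PJ := fun hmem => hn (hPJ ▸ Ideal.mem_comap.2 hmem)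
  obtain ⟨s, hs, hker, hran⟩ := exists_notMem_of_congr_smul u PJ _ hn' hcong
  obtain ⟨s₀, rfl⟩ := Ideal.Quotient.mk_surjective s
  rw [← Algebra.mem_etaleLocus_iff (p := ⟨PJ, inferInstance⟩), Algebra.etaleLocus_eq_compl_support]
  refine ⟨?_, ?_⟩
  · rw [Set.mem_compl_iff, Module.notMem_support_iff']
    intro m
    refine ⟨Ideal.Quotient.mk J s₀, hs, ?_⟩
    obtain ⟨y, rfl⟩ := KaehlerDifferential.mapBaseChange_surjective A S (S ⧸ J) Ideal.Quotient.mk_surjective m
    obtain ⟨y', hy'⟩ := hran y
    obtain ⟨ω, rfl⟩ := hsurj1 y'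
    rw [← map_smul, ← hy', hu, KaehlerDifferential.mapBaseChange_tmul, one_smul,
      KaehlerDifferential.map_D, Ideal.Quotient.algebraMap_eq, Ideal.Quotient.eq_zero_iff_mem.2 (hVJ ω), map_zero]
  · rw [Set.mem_compl_iff, Module.notMem_support_iff']
    let E : Algebra.Extension.{u} A (S ⧸ J) :=
      ⟨S, _, Function.surjInv_eq Ideal.Quotient.mk_surjective⟩
    haveI : Algebra.FormallySmooth A E.Ring := inferInstanceAs (Algebra.FormallySmooth A S)
    intro m
    refine ⟨Ideal.Quotient.mk J s₀, hs, ?_⟩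
    obtain ⟨z, rfl⟩ := E.equivH1CotangentOfFormallySmooth.surjective m
    rw [← map_smul, LinearEquiv.map_eq_zero_iff]
    obtain ⟨z, hz⟩ := z
    obtain ⟨⟨j, hj⟩, rfl⟩ := Algebra.Extension.Cotangent.mk_surjective z
    have hjJ : j ∈ J := Ideal.Quotient.eq_zero_iff_mem.1 hj
    obtain ⟨ω, hω⟩ := hJV j hjJ
    have hz' : (1 : S ⧸ J) ⊗ₜ[S] KaehlerDifferential.D A S j = 0 := hz
    have h0 : (1 : S ⧸ J) ⊗ₜ[S] (s₀ • ω) = 0 := by
      rw [tmul_smul, ← algebraMap_smul (S ⧸ J) s₀]
      exact hker _ (by rw [hu, hω]; exact hz')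
    have h1 := congrArg (TensorProduct.quotTensorEquivQuotSMul (Ω[S⁄A]) J) h0
    rw [TensorProduct.quotTensorEquivQuotSMul_mk_one_tmul, map_zero, Submodule.Quotient.mk_eq_zero] at h1
    have h2 : s₀ * j ∈ J ^ 2 := by
      rw [← hω, ← smul_eq_mul, ← map_smul]
      refine Submodule.smul_induction_on h1 (fun a ha x _ => ?_) (fun x y hx hy => ?_)
      · rw [map_smul, smul_eq_mul, pow_two]; exact Ideal.mul_mem_mul ha (hVJ x)
      · rw [map_add]; exact add_mem hx hy
    apply Subtype.ext
    show Ideal.Quotient.mk J s₀ • Algebra.Extension.Cotangent.mk ⟨j, hj⟩ = 0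
    rw [show Ideal.Quotient.mk J s₀ = algebraMap E.Ring (S ⧸ J) s₀ from rfl, algebraMap_smul,
      ← map_smul, Algebra.Extension.Cotangent.mk_eq_zero_iff]
    have hker' : E.ker = J := Ideal.mk_ker
    show s₀ * j ∈ E.ker ^ 2
    rw [hker']
    exact h2

/-- A finite group of invertible order acting semilinearly and fixing a point of the closed fibre
of a smooth algebra fixes a section through it. -/
theorem exists_equivariant_algHom [HenselianLocalRing A] [Algebra.Smooth A S] {G : Type u} [Group G]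
    [Finite G] [MulSemiringAction G A] (hG : IsUnit ((Nat.card G : ℕ) : ResidueField A))
    (htriv : ∀ (g : G) (a : A), g • a - a ∈ maximalIdeal A)
    (φ : G → (S →+* S)) (h1 : ∀ r, φ 1 r = r) (hmul : ∀ g h r, φ (g * h) r = φ g (φ h r))
    (hφ : ∀ g a, φ g (algebraMap A S a) = algebraMap A S (g • a))
    (ε : S →ₐ[A] ResidueField A) (hε : ∀ g r, ε (φ g r) = ε r) :
    ∃ τ : S →ₐ[A] A, (∀ r, residue A (τ r) = ε r) ∧ ∀ g r, τ (φ g r) = g • τ r := by
  classical
  haveI := Fintype.ofFinite G
  let P : Ideal S := RingHom.ker ε.toRingHom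
  have hP : ∀ {r}, r ∈ P ↔ ε r = 0 := RingHom.mem_ker
  haveI : P.IsPrime := RingHom.ker_isPrime ε.toRingHom
  have hsub : ∀ r : S, ∃ a : A, r - algebraMap A S a ∈ P := fun r => by
    obtain ⟨a, ha⟩ := residue_surjective (ε r)
    refine ⟨a, hP.2 ?_⟩
    rw [map_sub, AlgHom.commutes, ResidueField.algebraMap_eq, ha, sub_self]
  let Q : Ideal S := P * P ⊔ (maximalIdeal A).map (algebraMap A S)
  have hmP : (maximalIdeal A).map (algebraMap A S) ≤ P := Ideal.map_le_iff_le_comap.2 fun a ha => hP.2 (by
    rw [AlgHom.commutes, ResidueField.algebraMap_eq, residue_eq_zero_iff]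
    exact ha)
  have hQP : Q ≤ P := sup_le Ideal.mul_le_left hmP
  have hres : ∀ (g : G) (a : A), residue A (g • a) = residue A a := fun g a =>
    Ideal.Quotient.eq.2 (htriv g a)
  have hφP : ∀ g r, r ∈ P → φ g r ∈ P := fun g r hr => hP.2 ((hε g r).trans (hP.1 hr))
  have hφQ : ∀ g r, r ∈ Q → φ g r ∈ Q := by
    intro g r hr
    have : Q.map (φ g) ≤ Q := by
      rw [Ideal.map_sup, Ideal.map_mul]
      refine sup_le_sup (Ideal.mul_mono ?_ ?_) ?_
      · exact Ideal.map_le_iff_le_comap.2 fun x hx => hφP g x hx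
      · exact Ideal.map_le_iff_le_comap.2 fun x hx => hφP g x hx
      · rw [Ideal.map_map, Ideal.map_le_iff_le_comap]
        intro a ha
        rw [Ideal.mem_comap, RingHom.comp_apply, hφ]
        refine Ideal.mem_map_of_mem _ ?_
        rw [← residue_eq_zero_iff, hres, residue_eq_zero_iff]
        exact ha
    exact this (Ideal.mem_map_of_mem _ hr)
  -- the tangent space at the point
  have hinj : ∀ z ∈ P, KaehlerDifferential.D A S z ∈ P • (⊤ : Submodule S Ω[S⁄A]) → z ∈ Q := by
    choose ℓ hℓ using hsub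
    have hmk : ∀ (r : S) (a : A), r - algebraMap A S a ∈ P →
        Ideal.Quotient.mk Q (r - algebraMap A S (ℓ r)) = Ideal.Quotient.mk Q (r - algebraMap A S a) := by
      intro r a ha
      rw [Ideal.Quotient.eq]
      have h1 : ε (algebraMap A S (a - ℓ r)) = 0 := by
        have := hP.1 (sub_mem (hℓ r) ha)
        rwa [sub_sub_sub_cancel_left, ← map_sub] at this
      rw [AlgHom.commutes, ResidueField.algebraMap_eq, residue_eq_zero_iff] at h1
      rw [sub_sub_sub_cancel_left, ← map_sub]
      exact Ideal.mem_sup_right (Ideal.mem_map_of_mem _ h1)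
    let d0 : Derivation A S (S ⧸ Q) := Derivation.mk'
      { toFun := fun r => Ideal.Quotient.mk Q (r - algebraMap A S (ℓ r))
        map_add' := fun x y => by
          rw [hmk (x + y) (ℓ x + ℓ y) (by rw [map_add, add_sub_add_comm]; exact add_mem (hℓ x) (hℓ y)),
            map_add, add_sub_add_comm, map_add]
        map_smul' := fun c x => by
          rw [hmk (c • x) (c * ℓ x) (by
            rw [map_mul, Algebra.smul_def, ← mul_sub]; exact P.mul_mem_left _ (hℓ x)),
            map_mul, Algebra.smul_def c x, ← mul_sub, map_mul, RingHom.id_apply, Algebra.smul_def]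
          rfl }
      (fun x y => by
        show Ideal.Quotient.mk Q (x * y - algebraMap A S (ℓ (x * y))) = x • Ideal.Quotient.mk Q (y - algebraMap A S (ℓ y)) +
          y • Ideal.Quotient.mk Q (x - algebraMap A S (ℓ x))
        have hxy : x * y - algebraMap A S (ℓ x * ℓ y) ∈ P := by
          rw [map_mul, show x * y - algebraMap A S (ℓ x) * algebraMap A S (ℓ y) =
            (x - algebraMap A S (ℓ x)) * y + algebraMap A S (ℓ x) * (y - algebraMap A S (ℓ y)) by ring]
          exact add_mem (P.mul_mem_right _ (hℓ x)) (P.mul_mem_left _ (hℓ y))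
        rw [hmk _ _ hxy, Algebra.smul_def, Algebra.smul_def, Ideal.Quotient.algebraMap_eq, ← map_mul, ← map_mul,
          ← map_add, Ideal.Quotient.eq]
        refine Ideal.mem_sup_left ?_
        rw [show x * y - algebraMap A S (ℓ x * ℓ y) - (x * (y - algebraMap A S (ℓ y)) + y * (x - algebraMap A S (ℓ x))) =
          -((x - algebraMap A S (ℓ x)) * (y - algebraMap A S (ℓ y))) by rw [map_mul]; ring]
        exact neg_mem (Ideal.mul_mem_mul (hℓ x) (hℓ y)))
    intro z hz hD
    have h1 : d0.liftKaehlerDifferential (KaehlerDifferential.D A S z) = 0 := by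
      refine Submodule.smul_induction_on hD (fun p hp ω hω' => ?_) (fun x y hx hy => by rw [map_add, hx, hy, add_zero])
      clear hω'
      have hrange : ∃ w ∈ P, d0.liftKaehlerDifferential ω = Ideal.Quotient.mk Q w := by
        have hmem : ω ∈ Submodule.span S (Set.range (KaehlerDifferential.D A S)) := by
          rw [KaehlerDifferential.span_range_derivation]; exact Submodule.mem_top
        induction hmem using Submodule.span_induction with
        | mem x hx =>
          obtain ⟨r, rfl⟩ := hx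
          exact ⟨_, hℓ r, d0.liftKaehlerDifferential_comp_D r⟩
        | zero => exact ⟨0, zero_mem _, by rw [map_zero, map_zero]⟩
        | add x y _ _ hx hy =>
          obtain ⟨a, ha, ha'⟩ := hx; obtain ⟨b, hb, hb'⟩ := hy
          exact ⟨a + b, add_mem ha hb, by rw [map_add, map_add, ha', hb']⟩
        | smul c x _ hx =>
          obtain ⟨a, ha, ha'⟩ := hx
          exact ⟨c * a, P.mul_mem_left _ ha, by rw [map_smul, ha', map_mul]; rfl⟩
      obtain ⟨w, hw, hw'⟩ := hrange
      rw [map_smul, hw', Algebra.smul_def, Ideal.Quotient.algebraMap_eq, ← map_mul, Ideal.Quotient.eq_zero_iff_mem]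
      exact Ideal.mem_sup_left (Ideal.mul_mem_mul hp hw)
    rw [d0.liftKaehlerDifferential_comp_D] at h1
    have h2 : Ideal.Quotient.mk Q (z - algebraMap A S (ℓ z)) = 0 := h1
    rwa [hmk z 0 (by simpa using hz), map_zero, sub_zero, Ideal.Quotient.eq_zero_iff_mem] at h2
  -- the Euler field
  obtain ⟨m, π, hπ⟩ := Module.Finite.exists_fin' S Ω[S⁄A]
  obtain ⟨sec, hsec⟩ := Module.projective_lifting_property π LinearMap.id hπ
  have ht : ∀ ω : Ω[S⁄A], ∃ t ∈ P, ω - KaehlerDifferential.D A S t ∈ P • (⊤ : Submodule S Ω[S⁄A]) := by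
    intro ω
    have hmem : ω ∈ Submodule.span S (Set.range (KaehlerDifferential.D A S)) := by
      rw [KaehlerDifferential.span_range_derivation]; exact Submodule.mem_top
    induction hmem using Submodule.span_induction with
    | mem x hx =>
      obtain ⟨r, rfl⟩ := hx
      obtain ⟨a, ha⟩ := hsub r
      exact ⟨_, ha, by rw [map_sub, Derivation.map_algebraMap, sub_zero, sub_self]; exact zero_mem _⟩
    | zero => exact ⟨0, zero_mem _, by rw [map_zero, sub_zero]; exact zero_mem _⟩
    | add x y _ _ hx hy =>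
      obtain ⟨a, ha, ha'⟩ := hx; obtain ⟨b, hb, hb'⟩ := hy
      exact ⟨a + b, add_mem ha hb, by rw [map_add, add_sub_add_comm]; exact add_mem ha' hb'⟩
    | smul c x _ hx =>
      obtain ⟨t, ht, ht'⟩ := hx
      obtain ⟨a, ha⟩ := hsub c
      refine ⟨a • t, Submodule.smul_of_tower_mem P a ht, ?_⟩
      rw [Derivation.map_smul, ← algebraMap_smul S a (KaehlerDifferential.D A S t),
        show c • x - algebraMap A S a • KaehlerDifferential.D A S t =
          (c - algebraMap A S a) • x + algebraMap A S a • (x - KaehlerDifferential.D A S t) by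
          rw [sub_smul, smul_sub]; abel]
      exact add_mem (Submodule.smul_mem_smul ha Submodule.mem_top) (Submodule.smul_mem _ _ ht')
  choose t htP htω using fun i : Fin m => ht (π (Pi.single i 1))
  let L : Ω[S⁄A] →ₗ[S] S := ∑ i, t i • (LinearMap.proj i).comp sec
  have hL : ∀ ω, L ω = ∑ i, t i * sec ω i := fun ω => by simp [L]
  let v0 : Derivation A S S := L.compDer (KaehlerDifferential.D A S)
  have hv0 : ∀ r, v0 r = L (KaehlerDifferential.D A S r) := fun r => rfl
  have hv0P : ∀ r, v0 r ∈ P := fun r => by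
    rw [hv0, hL]
    exact Ideal.sum_mem _ fun i _ => P.mul_mem_right _ (htP i)
  have hv0Q : ∀ r ∈ P, v0 r - r ∈ Q := by
    intro r hr
    refine hinj _ (sub_mem (hv0P r) hr) ?_
    set ω := KaehlerDifferential.D A S r with hω
    have hexp : ω = ∑ i, sec ω i • π (Pi.single i 1) := by
      conv_lhs => rw [← LinearMap.id_apply (R := S) ω, ← hsec, LinearMap.comp_apply, ← Finset.univ_sum_single (sec ω)]
      rw [map_sum]
      refine Finset.sum_congr rfl fun i _ => ?_
      rw [← map_smul, ← Pi.single_smul, smul_eq_mul, mul_one]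
    rw [map_sub, ← hω]
    conv => arg 2; arg 2; rw [hexp]
    rw [hv0, hL, ← hω, map_sum, ← Finset.sum_sub_distrib]
    refine Submodule.sum_mem _ fun i _ => ?_
    rw [Derivation.leibniz, add_sub_assoc, ← smul_sub]
    refine add_mem (Submodule.smul_mem_smul (htP i) Submodule.mem_top) (Submodule.smul_mem _ _ ?_)
    rw [← neg_sub]
    exact neg_mem (htω i)
  -- its average
  have hlin : ∀ g (c : A) r, φ g (v0 (φ g⁻¹ (c • r))) = c • φ g (v0 (φ g⁻¹ r)) := fun g c r => by
    rw [Algebra.smul_def, map_mul, hφ, ← Algebra.smul_def, Derivation.map_smul, Algebra.smul_def, map_mul, hφ,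
      smul_inv_smul, ← Algebra.smul_def]
  have hinv : ∀ g r, φ g (φ g⁻¹ r) = r := fun g r => by rw [← hmul, mul_inv_cancel, h1]
  let v : Derivation A S S := Derivation.mk'
    { toFun := fun r => ∑ g, φ g (v0 (φ g⁻¹ r))
      map_add' := fun x y => by simp only [map_add, Finset.sum_add_distrib]
      map_smul' := fun c x => by simp only [hlin, Finset.smul_sum, RingHom.id_apply] }
    (fun x y => by
      show ∑ g, φ g (v0 (φ g⁻¹ (x * y))) = x • (∑ g, φ g (v0 (φ g⁻¹ y))) + y • (∑ g, φ g (v0 (φ g⁻¹ x)))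
      rw [Finset.smul_sum, Finset.smul_sum, ← Finset.sum_add_distrib]
      refine Finset.sum_congr rfl fun g _ => ?_
      simp only [map_mul, Derivation.leibniz, smul_eq_mul, map_add, hinv])
  have hvdef : ∀ r, v r = ∑ g, φ g (v0 (φ g⁻¹ r)) := fun r => rfl
  have hvk : ∀ k r, v (φ k r) = φ k (v r) := fun k r => by
    rw [hvdef, hvdef, map_sum, ← Equiv.sum_comp (Equiv.mulLeft k)]
    refine Finset.sum_congr rfl fun g _ => ?_
    rw [Equiv.coe_mulLeft, mul_inv_rev, hmul g⁻¹ k⁻¹, ← hmul k⁻¹ k, inv_mul_cancel, h1, hmul k g]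
  let N : S := (Nat.card G : ℕ)
  have hvQ : ∀ r ∈ P, v r - N * r ∈ Q := by
    intro r hr
    rw [hvdef, show N * r = ∑ _g : G, r by simp [N, Nat.card_eq_fintype_card], ← Finset.sum_sub_distrib]
    refine Ideal.sum_mem _ fun g _ => ?_
    have := hφQ g _ (hv0Q _ (hφP g⁻¹ r hr))
    rwa [map_sub, hinv] at this
  have hvP : ∀ r, v r ∈ P := fun r => Ideal.sum_mem _ fun g _ => hφP g _ (hv0P _)
  have hN : N ∉ P := fun h => hG.ne_zero (by simpa [N] using hP.1 h)
  have hDQ : ∀ q ∈ Q, KaehlerDifferential.D A S q ∈ P • (⊤ : Submodule S Ω[S⁄A]) := by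
    intro q hq
    obtain ⟨a, ha, b, hb, rfl⟩ := Submodule.mem_sup.1 hq
    rw [map_add]
    refine add_mem (Submodule.mul_induction_on (C := fun a => KaehlerDifferential.D A S a ∈ P • (⊤ : Submodule S Ω[S⁄A]))
      ha (fun x hx y hy => ?_) fun x y hx hy => ?_) ?_
    · rw [Derivation.leibniz]
      exact add_mem (Submodule.smul_mem_smul hx Submodule.mem_top) (Submodule.smul_mem_smul hy Submodule.mem_top)
    · rw [map_add]; exact add_mem hx hy
    · refine Submodule.span_induction (p := fun b _ => KaehlerDifferential.D A S b ∈ P • (⊤ : Submodule S Ω[S⁄A]))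
        ?_ ?_ ?_ ?_ hb
      · rintro _ ⟨a, -, rfl⟩; rw [Derivation.map_algebraMap]; exact zero_mem _
      · rw [map_zero]; exact zero_mem _
      · intro x y _ _ hx hy; rw [map_add]; exact add_mem hx hy
      · intro c x hx' hx
        rw [smul_eq_mul, Derivation.leibniz]
        exact add_mem (Submodule.smul_mem _ _ hx) (Submodule.smul_mem_smul (hmP hx') Submodule.mem_top)
  have hvω : ∀ ω : Ω[S⁄A], KaehlerDifferential.D A S (v.liftKaehlerDifferential ω) - N • ω
      ∈ P • (⊤ : Submodule S Ω[S⁄A]) := by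
    intro ω
    have hmem : ω ∈ Submodule.span S (Set.range (KaehlerDifferential.D A S)) := by
      rw [KaehlerDifferential.span_range_derivation]; exact Submodule.mem_top
    have hVP : ∀ x : Ω[S⁄A], v.liftKaehlerDifferential x ∈ P := fun x => by
      have hmem : x ∈ Submodule.span S (Set.range (KaehlerDifferential.D A S)) := by
        rw [KaehlerDifferential.span_range_derivation]; exact Submodule.mem_top
      induction hmem using Submodule.span_induction with
      | mem x hx => obtain ⟨r, rfl⟩ := hx; rw [v.liftKaehlerDifferential_comp_D]; exact hvP r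
      | zero => rw [map_zero]; exact zero_mem _
      | add x y _ _ hx hy => rw [map_add]; exact add_mem hx hy
      | smul c x _ hx => rw [map_smul]; exact P.mul_mem_left _ hx
    induction hmem using Submodule.span_induction with
    | mem x hx =>
      obtain ⟨r, rfl⟩ := hx
      obtain ⟨a, ha⟩ := hsub r
      rw [v.liftKaehlerDifferential_comp_D, show r = (r - algebraMap A S a) + algebraMap A S a by ring]
      simp only [map_add, Derivation.map_algebraMap, add_zero]
      have := hDQ _ (hvQ _ ha)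
      rw [map_sub, Derivation.leibniz, show KaehlerDifferential.D A S N = 0 by
        simp [N, Derivation.map_natCast], smul_zero, add_zero] at this
      exact this
    | zero => rw [map_zero, map_zero, smul_zero, sub_zero]; exact zero_mem _
    | add x y _ _ hx hy => rw [map_add, map_add, smul_add, add_sub_add_comm]; exact add_mem hx hy
    | smul c x _ hx =>
      rw [map_smul, smul_eq_mul, Derivation.leibniz, smul_comm N c x, add_sub_right_comm, ← smul_sub]
      exact add_mem (Submodule.smul_mem _ _ hx) (Submodule.smul_mem_smul (hVP x) Submodule.mem_top)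
  -- the zero scheme
  let J : Ideal S := Ideal.span (Set.range v)
  have hJP : J ≤ P := Ideal.span_le.2 (by rintro _ ⟨r, rfl⟩; exact hvP r)
  let εJ : (S ⧸ J) →ₐ[A] ResidueField A := Ideal.Quotient.liftₐ J ε fun r hr => hP.1 (hJP hr)
  let PJ : Ideal (S ⧸ J) := RingHom.ker εJ.toRingHom
  haveI : PJ.IsPrime := RingHom.ker_isPrime εJ.toRingHom
  haveI := isEtaleAt_quotient v P J rfl PJ rfl N hN hvω
  haveI : Algebra.FinitePresentation A (S ⧸ J) := by
    refine Algebra.FinitePresentation.quotient ?_
    have : J = LinearMap.range v.liftKaehlerDifferential := by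
      refine le_antisymm (Submodule.span_le.2 (by rintro _ ⟨r, rfl⟩; exact ⟨_, v.liftKaehlerDifferential_comp_D r⟩)) ?_
      rintro _ ⟨x, rfl⟩
      have hmem : x ∈ Submodule.span S (Set.range (KaehlerDifferential.D A S)) := by
        rw [KaehlerDifferential.span_range_derivation]; exact Submodule.mem_top
      induction hmem using Submodule.span_induction with
      | mem x hx => obtain ⟨r, rfl⟩ := hx; rw [v.liftKaehlerDifferential_comp_D]; exact Ideal.subset_span ⟨r, rfl⟩
      | zero => rw [map_zero]; exact zero_mem _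
      | add x y _ _ hx hy => rw [map_add]; exact add_mem hx hy
      | smul c x _ hx => rw [map_smul]; exact J.mul_mem_left _ hx
    rw [this]
    exact Module.Finite.iff_fg.1 inferInstance
  obtain ⟨f, hf, hE⟩ := Algebra.exists_etale_of_isEtaleAt (R := A) PJ
  have hfu : IsUnit (εJ f) := isUnit_iff_ne_zero.2 hf
  let εf : Localization.Away f →ₐ[A] ResidueField A :=
    IsLocalization.liftAlgHom (M := Submonoid.powers f) (f := εJ) (by rintro ⟨_, k, rfl⟩; simpa using hfu.pow k)
  haveI : HenselianRing A (maximalIdeal A) := Hensel.henselianRing_maximalIdeal_iff.2 inferInstance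
  obtain ⟨τf, hτf⟩ := Hensel.exists_lift_of_etale (A := A) (I := maximalIdeal A) εf
  let ι : (S ⧸ J) →ₐ[A] Localization.Away f := IsScalarTower.toAlgHom A (S ⧸ J) _
  let τ : S →ₐ[A] A := (τf.comp ι).comp (Ideal.Quotient.mkₐ A J)
  have hτ : ∀ r, residue A (τ r) = ε r := fun r => by
    refine (AlgHom.congr_fun hτf (ι (Ideal.Quotient.mk J r))).trans ?_
    exact IsLocalization.lift_eq _ _
  refine ⟨τ, hτ, fun k r => ?_⟩
  -- conjugate section
  have hφJ : ∀ r ∈ J, φ k⁻¹ r ∈ J := fun r hr => by
    refine Submodule.span_induction (p := fun r _ => φ k⁻¹ r ∈ J) ?_ ?_ ?_ ?_ hr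
    · rintro _ ⟨r, rfl⟩; rw [← hvk]; exact Ideal.subset_span ⟨_, rfl⟩
    · rw [map_zero]; exact zero_mem _
    · intro x y _ _ hx hy; rw [map_add]; exact add_mem hx hy
    · intro c x _ hx; rw [smul_eq_mul, map_mul]; exact J.mul_mem_left _ hx
  let τ' : S →ₐ[A] A :=
    { toRingHom := (MulSemiringAction.toRingHom G A k).comp (τ.toRingHom.comp (φ k⁻¹))
      commutes' := fun a => by
        show k • τ (φ k⁻¹ (algebraMap A S a)) = a
        rw [hφ, AlgHom.commutes]
        exact smul_inv_smul k a }
  have hτ'J : ∀ r ∈ J, τ' r = 0 := fun r hr => by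
    show k • τ (φ k⁻¹ r) = 0
    rw [show τ (φ k⁻¹ r) = τf (ι (Ideal.Quotient.mk J (φ k⁻¹ r))) from rfl,
      Ideal.Quotient.eq_zero_iff_mem.2 (hφJ r hr), map_zero, map_zero, smul_zero]
  let τJ : (S ⧸ J) →ₐ[A] A := Ideal.Quotient.liftₐ J τ' hτ'J
  have hτJ : ∀ r, residue A (τJ (Ideal.Quotient.mk J r)) = ε r := fun r => by
    show residue A (k • τ (φ k⁻¹ r)) = ε r
    rw [hres, hτ, hε]
  have hfu' : IsUnit (τJ f) := by
    obtain ⟨f₀, rfl⟩ := Ideal.Quotient.mk_surjective f
    by_contra hcon
    have : residue A (τJ (Ideal.Quotient.mk J f₀)) = 0 := (residue_eq_zero_iff _).2 hcon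
    rw [hτJ] at this
    exact hf this
  let τf' : Localization.Away f →ₐ[A] A :=
    IsLocalization.liftAlgHom (M := Submonoid.powers f) (f := τJ) (by rintro ⟨_, j, rfl⟩; simpa using hfu'.pow j)
  have heq : τf = τf' := by
    refine Hensel.algHom_unique (HenselianRing.jac (I := maximalIdeal A)) fun x => ?_
    obtain ⟨⟨y, ⟨_, j, rfl⟩⟩, hx⟩ := IsLocalization.surj (Submonoid.powers f) x
    have hy : ∀ y, residue A (τf (ι y)) = residue A (τf' (ι y)) := fun y => by
      obtain ⟨y₀, rfl⟩ := Ideal.Quotient.mk_surjective y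
      rw [show τf (ι (Ideal.Quotient.mk J y₀)) = τ y₀ from rfl, hτ]
      simp only [τf', ι, IsLocalization.liftAlgHom_apply, IsScalarTower.coe_toAlgHom', IsLocalization.lift_eq]
      exact (hτJ y₀).symm
    rw [← residue_eq_zero_iff, map_sub, sub_eq_zero]
    have hunit : residue A (τf (ι (f ^ j))) ≠ 0 := by
      rw [map_pow ι, map_pow τf, map_pow]
      refine pow_ne_zero _ ?_
      obtain ⟨f₀, rfl⟩ := Ideal.Quotient.mk_surjective f
      rw [show τf (ι (Ideal.Quotient.mk J f₀)) = τ f₀ from rfl, hτ]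
      exact hf
    refine mul_right_cancel₀ hunit ?_
    rw [← map_mul (residue A), ← map_mul τf, hy, ← map_mul (residue A), ← map_mul τf']
    rw [show x * ι (f ^ j) = ι y from hx]
    exact hy y
  have h3 : ∀ r, τ r = k • τ (φ k⁻¹ r) := fun r => by
    show τf (ι (Ideal.Quotient.mk J r)) = _
    rw [heq]
    simp only [τf', ι, IsLocalization.liftAlgHom_apply, IsScalarTower.coe_toAlgHom', IsLocalization.lift_eq]
    rfl
  rw [h3 (φ k r), ← hmul, inv_mul_cancel, h1]

end Groth.Agent.InvSectionLib
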